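import Mathlib.FieldTheory.KrullTopology
import Mathlib.Topology.LocallyConstant.Basic
import Mathlib.FieldTheory.IsSepClosed
import Mathlib.FieldTheory.Normal.Closure
import Mathlib.FieldTheory.Galois.Basic
import Mathlib.RingTheory.Trace.Basic
import Mathlib.LinearAlgebra.LinearIndependent.Basic

/-!
# Hilbert 90 for continuous cocycles of an infinite Galois group
-/

set_option autoImplicit false

universe u v

open IntermediateField

namespace Groth.GalH90

variable {K : Type u} {L : Type v} [Field K] [Field L] [Algebra K L] [IsGalois K L]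

/-- A locally constant cocycle depends only on the restriction to a finite Galois subextension. -/
theorem exists_level {M : Type*} (a : (L ≃ₐ[K] L) → M)
    (ha : ∀ τ ν, a ν = a 1 → a (τ * ν) = a τ) (hlc : IsLocallyConstant a) :
    ∃ F : IntermediateField K L, FiniteDimensional K F ∧ Normal K F ∧
      ∀ σ τ : L ≃ₐ[K] L, (∀ x : F, σ x = τ x) → a σ = a τ := by
  have h : {σ | a σ = a 1} ∈ nhds (1 : L ≃ₐ[K] L) := (hlc.isOpen_fiber (a 1)).mem_nhds rfl
  obtain ⟨E, hE, hsub⟩ := (krullTopology_mem_nhds_one_iff K L _).mp h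
  refine ⟨IntermediateField.normalClosure K E L, inferInstance, inferInstance, fun σ τ hστ => ?_⟩
  have hν : a (τ⁻¹ * σ) = a 1 := hsub fun x => by
    show τ.symm (σ x) = x
    rw [hστ ⟨x, E.le_normalClosure x.2⟩]
    exact τ.symm_apply_apply _
  rw [show σ = τ * (τ⁻¹ * σ) by group, ha _ _ hν]

variable (F : IntermediateField K L) [FiniteDimensional K F] [Normal K F]

/-- The lift of an automorphism of a normal subextension. -/
noncomputable def lift (g : F ≃ₐ[K] F) : L ≃ₐ[K] L := g.liftNormal L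

omit [IsGalois K L] in
theorem restrict_eq (σ τ : L ≃ₐ[K] L) (g : F ≃ₐ[K] F) (h : ∀ x : F, τ x = g x) (x : F) :
    (σ * τ) x = ((σ.restrictNormal F * g) x : F) := by
  show σ (τ x) = _
  rw [h x, show (((σ.restrictNormal F * g) x : F) : L) = _ from AlgEquiv.restrictNormal_commutes σ F (g x)]
  rfl

theorem lift_apply (g : F ≃ₐ[K] F) (x : F) : lift F g x = g x := g.liftNormal_commutes L x

theorem shift {M : Type*} (a : (L ≃ₐ[K] L) → M)
    (hF : ∀ σ τ : L ≃ₐ[K] L, (∀ x : F, σ x = τ x) → a σ = a τ) (σ : L ≃ₐ[K] L) (g : F ≃ₐ[K] F) :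
    a (σ * lift F g) = a (lift F (σ.restrictNormal F * g)) := hF _ _ fun x => by
  rw [restrict_eq F σ _ g (lift_apply F g), lift_apply]

theorem exists_unit (a : (L ≃ₐ[K] L) → Lˣ) (ha : ∀ σ τ, a (σ * τ) = a σ * σ • a τ)
    (hF : ∀ σ τ : L ≃ₐ[K] L, (∀ x : F, σ x = τ x) → a σ = a τ) :
    ∃ c : Lˣ, ∀ σ : L ≃ₐ[K] L, a σ = c⁻¹ * σ • c := by
  classical
  let s : F → L := fun θ => ∑ g : F ≃ₐ[K] F, (a (lift F g) : L) * (g θ : F)
  obtain ⟨θ, hθ⟩ : ∃ θ, s θ ≠ 0 := by
    by_contra! h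
    let χ : (F ≃ₐ[K] F) → (F →* L) := fun g => (((algebraMap F L).comp g.toAlgHom.toRingHom) : F →* L)
    have hχ : Function.Injective χ := fun g g' e => AlgEquiv.ext fun x => Subtype.ext (DFunLike.congr_fun e x)
    have hli := (linearIndependent_monoidHom F L).comp χ hχ
    rw [Fintype.linearIndependent_iff] at hli
    exact (a (lift F 1)).ne_zero (hli (fun g => (a (lift F g) : L)) (funext fun x => by
      simp only [Finset.sum_apply, Pi.smul_apply, smul_eq_mul, Function.comp_apply, Pi.zero_apply]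
      exact h x) 1)
  have key : ∀ σ : L ≃ₐ[K] L, σ (s θ) = ((a σ)⁻¹ : Lˣ) * s θ := by
    intro σ
    simp only [s, map_sum, map_mul, Finset.mul_sum]
    refine Fintype.sum_equiv (Equiv.mulLeft (σ.restrictNormal F)) _ _ fun g => ?_
    rw [Equiv.coe_mulLeft, ← shift F a hF σ g, ← restrict_eq F σ _ g (lift_apply F g), ← mul_assoc]
    show σ (a (lift F g) : L) * σ (g θ : F) = _ * σ (lift F g θ)
    rw [lift_apply]
    congr 1
    rw [← Units.val_mul, ha, inv_mul_cancel_left]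
    rfl
  refine ⟨(Units.mk0 _ hθ)⁻¹, fun σ => Units.ext ?_⟩
  rw [inv_inv, smul_inv', Units.val_mul, Units.val_inv_eq_inv_val,
    show ((σ • Units.mk0 (s θ) hθ : Lˣ) : L) = σ (s θ) from rfl, Units.val_mk0, key]
  rw [Units.val_inv_eq_inv_val]
  field_simp

theorem exists_add [IsGalois K F] (a : (L ≃ₐ[K] L) → L) (ha : ∀ σ τ, a (σ * τ) = a σ + σ (a τ))
    (hF : ∀ σ τ : L ≃ₐ[K] L, (∀ x : F, σ x = τ x) → a σ = a τ) :
    ∃ y : L, ∀ σ : L ≃ₐ[K] L, a σ = σ y - y := by
  classical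
  obtain ⟨θ, hθ⟩ := Algebra.trace_surjective K F 1
  have h1 : ∑ g : F ≃ₐ[K] F, ((g θ : F) : L) = 1 := by
    rw [← IntermediateField.coe_sum, ← trace_eq_sum_automorphisms, hθ, map_one]
    rfl
  let y := ∑ g : F ≃ₐ[K] F, a (lift F g) * (g θ : F)
  refine ⟨-y, fun σ => ?_⟩
  have key : σ y = y - a σ := by
    have h2 : a σ = a σ * ∑ g : F ≃ₐ[K] F, (((σ.restrictNormal F * g) θ : F) : L) := by
      rw [show (∑ g : F ≃ₐ[K] F, (((σ.restrictNormal F * g) θ : F) : L)) = ∑ g : F ≃ₐ[K] F, ((g θ : F) : L) from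
        Fintype.sum_equiv (Equiv.mulLeft (σ.restrictNormal F)) _ _ fun g => rfl, h1, mul_one]
    rw [eq_sub_iff_add_eq, h2, Finset.mul_sum, map_sum, ← Finset.sum_add_distrib]
    refine Fintype.sum_equiv (Equiv.mulLeft (σ.restrictNormal F)) _ _ fun g => ?_
    rw [map_mul, Equiv.coe_mulLeft, ← shift F a hF σ g, ha, ← restrict_eq F σ _ g (lift_apply F g)]
    show σ (a (lift F g)) * σ (g θ : F) + a σ * σ (lift F g θ) = (a σ + σ (a (lift F g))) * σ (lift F g θ)
    rw [lift_apply]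
    ring
  rw [map_neg, key]
  ring

end Groth.GalH90
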